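import Groth.Prelude.Def_W4c5suslinpi1abAdj

/-! Formal identities for projection morphisms and exterior products. -/

universe v u

open CategoryTheory MonoidalCategory Functor.LaxMonoidal Functor.OplaxMonoidal W4c5suslinpi1ab

namespace Groth.Agent.W4c5Suslin

section One

variable {C : Type u} [Category.{v} C] [MonoidalCategory C]
variable {D : Type u} [Category.{v} D] [MonoidalCategory D]
variable {L : C ⥤ D} {R : D ⥤ C} (adj : L ⊣ R) [R.LaxMonoidal]

theorem symm_projR [L.OplaxMonoidal] [adj.IsMonoidal] (A : D) (B : C) :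
    L.map (projR adj A B) ≫ adj.counit.app (A ⊗ L.obj B) =
      δ L (R.obj A) B ≫ (adj.counit.app A ▷ L.obj B) := by
  rw [projR, L.map_comp, Category.assoc, adj.map_μ_comp_counit_app_tensor]
  erw [← δ_natural_right_assoc]
  congr 1
  rw [← id_tensorHom, ← tensorHom_id, tensorHom_comp_tensorHom, Category.id_comp]
  congr 1
  exact adj.left_triangle_components B

theorem symm_projL [L.OplaxMonoidal] [adj.IsMonoidal] (A : C) (B : D) :
    L.map (projL adj A B) ≫ adj.counit.app (L.obj A ⊗ B) =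
      δ L A (R.obj B) ≫ (L.obj A ◁ adj.counit.app B) := by
  rw [projL, L.map_comp, Category.assoc, adj.map_μ_comp_counit_app_tensor]
  erw [← δ_natural_left_assoc]
  congr 1
  rw [← id_tensorHom, ← tensorHom_id, tensorHom_comp_tensorHom, Category.id_comp]
  congr 1
  exact adj.left_triangle_components A

theorem projR_natural {A A' : D} {B B' : C} (a : A ⟶ A') (b : B ⟶ B') :
    (R.map a ⊗ₘ b) ≫ projR adj A' B' = projR adj A B ≫ R.map (a ⊗ₘ L.map b) := by
  simp only [projR, Category.assoc]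
  rw [← μ_natural, ← id_tensorHom, ← id_tensorHom, tensorHom_comp_tensorHom_assoc,
    tensorHom_comp_tensorHom_assoc]
  simp

theorem projL_natural {A A' : C} {B B' : D} (a : A ⟶ A') (b : B ⟶ B') :
    (a ⊗ₘ R.map b) ≫ projL adj A' B' = projL adj A B ≫ R.map (L.map a ⊗ₘ b) := by
  simp only [projL, Category.assoc]
  rw [← μ_natural, ← tensorHom_id, ← tensorHom_id, tensorHom_comp_tensorHom_assoc,
    tensorHom_comp_tensorHom_assoc]
  simp

variable {S : C ⥤ D} (adj' : R ⊣ S) [∀ (A : D) (B : C), IsIso (projR adj A B)]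

theorem map_cupShriek_counit (A B : C) :
    R.map (cupShriek adj adj' A B) ≫ adj'.counit.app (A ⊗ B) =
      inv (projR adj (S.obj A) B) ≫ (adj'.counit.app A ▷ B) := by
  rw [cupShriek, Adjunction.homEquiv_unit, R.map_comp, Category.assoc]
  erw [adj'.counit_naturality]
  rw [adj'.left_triangle_components_assoc]

theorem cupShriek_natural (A : C) {B B' : C} (b : B ⟶ B') :
    cupShriek adj adj' A B ≫ S.map (A ◁ b) =
      (S.obj A ◁ L.map b) ≫ cupShriek adj adj' A B' := by
  apply (adj'.homEquiv _ _).symm.injective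
  simp only [Adjunction.homEquiv_counit, R.map_comp, Category.assoc, adj'.counit_naturality,
    map_cupShriek_counit]
  rw [reassoc_of% map_cupShriek_counit adj adj' A B, ← whisker_exchange]
  have h := projR_natural adj (𝟙 (S.obj A)) b
  rw [id_tensorHom, R.map_id, id_tensorHom] at h
  rw [IsIso.inv_comp_eq, ← reassoc_of% h, IsIso.hom_inv_id_assoc]

end One

section Square

variable {S₀ : Type u} [Category.{v} S₀] [MonoidalCategory S₀]
variable {Y₁ : Type u} [Category.{v} Y₁] [MonoidalCategory Y₁]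
variable {Y₂ : Type u} [Category.{v} Y₂] [MonoidalCategory Y₂]
variable {X : Type u} [Category.{v} X] [MonoidalCategory X]
variable {fL : S₀ ⥤ Y₁} {fR : Y₁ ⥤ S₀} (adjf : fL ⊣ fR) [fR.LaxMonoidal]
  {gR : Y₂ ⥤ S₀} {pL : Y₁ ⥤ X} {pR : X ⥤ Y₁} (adjp : pL ⊣ pR) [pR.LaxMonoidal]
  {qL : Y₂ ⥤ X} {qR : X ⥤ Y₂} (adjq : qL ⊣ qR) (ν : qR ⋙ gR ⟶ pR ⋙ fR)

theorem homEquiv_symm_extProd [fL.OplaxMonoidal] [adjf.IsMonoidal] [pL.OplaxMonoidal]
    [adjp.IsMonoidal] (A : Y₁) (B : Y₂) :
    ((adjf.comp adjp).homEquiv _ _).symm (extProd adjf adjp adjq ν A B) =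
      δ (fL ⋙ pL) (fR.obj A) (gR.obj B) ≫
        (pL.map (adjf.counit.app A) ⊗ₘ
          (pL.map ((bcMor adjf adjq ν).app B) ≫ adjp.counit.app (qL.obj B))) := by
  rw [Adjunction.comp_homEquiv, Equiv.symm_trans_apply, Adjunction.homEquiv_counit,
    Adjunction.homEquiv_counit, extProd]
  simp only [Functor.map_comp, Category.assoc, adjf.counit_naturality,
    adjf.counit_naturality_assoc]
  simp only [← Functor.map_comp_assoc, Category.assoc, adjf.counit_naturality]
  rw [reassoc_of% symm_projR adjf]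
  simp only [Functor.map_comp, Category.assoc]
  rw [symm_projL adjp]
  erw [← δ_natural_right_assoc, ← δ_natural_left_assoc]
  rw [comp_δ, Category.assoc]
  congr 2
  rw [tensorHom_def, whiskerLeft_comp]
  rfl

theorem extProd_natural {A A' : Y₁} {B B' : Y₂} (a : A ⟶ A') (b : B ⟶ B') :
    (fR.map a ⊗ₘ gR.map b) ≫ extProd adjf adjp adjq ν A' B' =
      extProd adjf adjp adjq ν A B ≫ fR.map (pR.map (pL.map a ⊗ₘ qL.map b)) := by
  rw [extProd, reassoc_of% projR_natural adjf a (gR.map b), extProd]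
  simp only [Category.assoc, ← fR.map_comp]
  congr 2
  rw [← projL_natural, ← id_tensorHom, ← id_tensorHom, tensorHom_comp_tensorHom_assoc,
    tensorHom_comp_tensorHom_assoc]
  congr 1
  rw [Category.comp_id, Category.id_comp]
  congr 1
  exact (bcMor adjf adjq ν).naturality b

instance isIso_extProd [∀ (A : Y₁) (B : S₀), IsIso (projR adjf A B)]
    [∀ (A : Y₁) (B : X), IsIso (projL adjp A B)]
    [∀ B : Y₂, IsIso ((bcMor adjf adjq ν).app B)] (A : Y₁) (B : Y₂) :
    IsIso (extProd adjf adjp adjq ν A B) := by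
  unfold extProd
  haveI h : IsIso ((bcMor adjf adjq ν).app B) := inferInstance
  haveI : IsIso (A ◁ (bcMor adjf adjq ν).app B) := inferInstance
  exact IsIso.comp_isIso

variable {fS : S₀ ⥤ Y₁} (adjf' : fR ⊣ fS) {gS : S₀ ⥤ Y₂} (adjg' : gR ⊣ gS)
  {pS : Y₁ ⥤ X} (adjp' : pR ⊣ pS)
  [∀ (A : Y₁) (B : S₀), IsIso (projR adjf A B)]
  [∀ (A : Y₁) (B : X), IsIso (projL adjp A B)]
  [∀ B : Y₂, IsIso ((bcMor adjf adjq ν).app B)]

theorem map_prodShriek_counit (A B : S₀) :
    pR.map (prodShriek adjf adjf' adjg' adjp adjp' adjq ν A B) ≫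
        adjp'.counit.app (fS.obj (A ⊗ B)) =
      inv (projL adjp (fS.obj A) (qL.obj (gS.obj B))) ≫
        (fS.obj A ◁ inv ((bcMor adjf adjq ν).app (gS.obj B))) ≫
        cupShriek adjf adjf' A (gR.obj (gS.obj B)) ≫ fS.map (A ◁ adjg'.counit.app B) := by
  exact (adjp'.homEquiv_counit _ _ _).symm.trans ((adjp'.homEquiv _ _).symm_apply_apply _)

theorem extProd_prodShriek (A B : S₀) :
    extProd adjf adjp adjq ν (fS.obj A) (gS.obj B) ≫
      fR.map (pR.map (prodShriek adjf adjf' adjg' adjp adjp' adjq ν A B)) ≫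
        fR.map (adjp'.counit.app (fS.obj (A ⊗ B))) =
      projR adjf (fS.obj A) (gR.obj (gS.obj B)) ≫
        fR.map (cupShriek adjf adjf' A (gR.obj (gS.obj B)) ≫ fS.map (A ◁ adjg'.counit.app B)) := by
  rw [← fR.map_comp, map_prodShriek_counit, extProd, Category.assoc, Category.assoc,
    ← fR.map_comp, ← fR.map_comp, IsIso.hom_inv_id_assoc, ← MonoidalCategory.whiskerLeft_comp_assoc, IsIso.hom_inv_id,
    MonoidalCategory.whiskerLeft_id, Category.id_comp]

theorem extProd_symm_prodShriek (A B : S₀) :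
    extProd adjf adjp adjq ν (fS.obj A) (gS.obj B) ≫
      ((adjp'.comp adjf').homEquiv _ _).symm
        (prodShriek adjf adjf' adjg' adjp adjp' adjq ν A B) =
      (adjf'.counit.app A ⊗ₘ adjg'.counit.app B) := by
  rw [Adjunction.comp_homEquiv, Equiv.symm_trans_apply, Adjunction.homEquiv_counit,
    Adjunction.homEquiv_counit, fR.map_comp, Category.assoc,
    reassoc_of% extProd_prodShriek adjf adjp adjq ν adjf' adjg' adjp', fR.map_comp, Category.assoc,
    adjf'.counit_naturality, reassoc_of% map_cupShriek_counit adjf adjf',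
    IsIso.hom_inv_id_assoc, tensorHom_def]
  rfl

theorem prodShriek_counit_eq (A B : S₀) :
    extProd adjf adjp adjq ν (fS.obj A) (gS.obj B) ≫
      fR.map (pR.map (prodShriek adjf adjf' adjg' adjp adjp' adjq ν A B)) ≫
        fR.map (adjp'.counit.app (fS.obj (A ⊗ B))) =
      (fR.obj (fS.obj A) ◁ adjg'.counit.app B) ≫ projR adjf (fS.obj A) B ≫
        fR.map (cupShriek adjf adjf' A B) := by
  rw [extProd_prodShriek, cupShriek_natural, fR.map_comp, ← Category.assoc, ← Category.assoc]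
  congr 1
  have h := projR_natural adjf (𝟙 (fS.obj A)) (adjg'.counit.app B)
  rw [id_tensorHom, fR.map_id, id_tensorHom] at h
  exact h.symm

theorem compatible_iff (A B : S₀) (A' : Y₁) (B' : Y₂) (C' : X)
    (trA : A' ⟶ fS.obj A) (trB : B' ⟶ gS.obj B) (trC : C' ⟶ pS.obj (fS.obj (A ⊗ B)))
    (m : pL.obj A' ⊗ qL.obj B' ⟶ C') :
    ((pL.map trA ⊗ₘ qL.map trB) ≫ prodShriek adjf adjf' adjg' adjp adjp' adjq ν A B =
        m ≫ trC) ↔
      (((adjf'.homEquiv _ _).symm trA ⊗ₘ (adjg'.homEquiv _ _).symm trB) =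
        extProd adjf adjp adjq ν A' B' ≫ fR.map (pR.map m) ≫
          ((adjp'.comp adjf').homEquiv _ _).symm trC) := by
  rw [← ((adjp'.comp adjf').homEquiv _ _).symm.injective.eq_iff,
    Adjunction.homEquiv_naturality_left_symm, Adjunction.homEquiv_naturality_left_symm,
    ← cancel_epi (extProd adjf adjp adjq ν A' B')]
  refine Eq.congr ?_ rfl
  rw [Functor.comp_map, ← reassoc_of% extProd_natural adjf adjp adjq ν trA trB,
    extProd_symm_prodShriek, tensorHom_comp_tensorHom, Adjunction.homEquiv_counit,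
    Adjunction.homEquiv_counit]

end Square

end Groth.Agent.W4c5Suslin
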